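import Cfsg.Agent.Lib.PConjugate.Main
import Mathlib.GroupTheory.Index

/-!
Finite groups in which any two subgroups of the same order are conjugate: basic consequences.
-/

set_option autoImplicit false

namespace CfsgLib.EqualOrder

universe u

variable {G : Type u} [Group G]

/-- Any two subgroups of the same order are conjugate. -/
def AllConj (G : Type u) [Group G] : Prop :=
  ∀ H K : Subgroup G, Nat.card H = Nat.card K → ∃ g : G, K = H.map (MulAut.conj g).toMonoidHom

theorem AllConj.conjEq (h : AllConj G) (p : ℕ) : PConjugate.ConjEq p G :=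
  fun H K _ _ hc => h H K hc

theorem AllConj.quotient [Finite G] (h : AllConj G) (N : Subgroup G) [N.Normal] :
    AllConj (G ⧸ N) := by
  intro H K hc
  set π := QuotientGroup.mk' N
  have hs : Function.Surjective π := QuotientGroup.mk'_surjective N
  have hcard : ∀ L : Subgroup (G ⧸ N), Nat.card (L.comap π) = Nat.card N * Nat.card L := by
    intro L
    have h1 := Subgroup.card_mul_index (π.comp (L.comap π).subtype).ker
    have h2 : (π.comp (L.comap π).subtype).ker = N.subgroupOf (L.comap π) := by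
      rw [← MonoidHom.comap_ker, QuotientGroup.ker_mk']; rfl
    have h3 : N ≤ L.comap π := fun x hx => by
      rw [Subgroup.mem_comap, QuotientGroup.mk'_apply, (QuotientGroup.eq_one_iff x).2 hx]
      exact one_mem L
    rw [Subgroup.index_ker, h2, Nat.card_congr (Subgroup.subgroupOfEquivOfLe h3).toEquiv,
      MonoidHom.range_comp, Subgroup.range_subtype,
      Subgroup.map_comap_eq_self_of_surjective hs] at h1
    exact h1.symm
  obtain ⟨g, hg⟩ := h (H.comap π) (K.comap π) (by rw [hcard, hcard, hc])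
  refine ⟨π g, ?_⟩
  rw [← Subgroup.map_comap_eq_self_of_surjective hs K, hg, Subgroup.map_map,
    show π.comp (MulAut.conj g).toMonoidHom = (MulAut.conj (π g)).toMonoidHom.comp π from
      MonoidHom.ext fun x => by simp [MulAut.conj_apply],
    ← Subgroup.map_map, Subgroup.map_comap_eq_self_of_surjective hs H]

variable [Finite G]

/-- An involution inverting an element of odd prime order, and an involution centralising an
element of the same order, cannot coexist. -/
theorem AllConj.false_of_inverted (h : AllConj G) {r : ℕ} [hr : Fact r.Prime] (hr2 : r ≠ 2)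
    {w w' u t : G} (hw : orderOf w = r) (hw' : orderOf w' = r) (hu : orderOf u = 2)
    (ht : orderOf t = 2) (hinv : u * w * u⁻¹ = w⁻¹) (hcomm : Commute t w') : False := by
  haveI : Fact (Nat.Prime 2) := ⟨Nat.prime_two⟩
  have hnot : ∀ {x y : G}, orderOf x = r → orderOf y = 2 → y ∉ Subgroup.zpowers x := by
    intro x y hx hy hm
    have h2 := Subgroup.card_dvd_of_le (Subgroup.zpowers_le.2 hm)
    rw [Nat.card_zpowers, Nat.card_zpowers, hx, hy] at h2
    exact hr2 ((Nat.prime_dvd_prime_iff_eq Nat.prime_two hr.out).1 h2).symm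
  have hH : Nat.card ↥(Subgroup.zpowers w ⊔ Subgroup.zpowers u) = r * 2 := by
    rw [PConjugate.card_sup_zpowers hu (hnot hw hu), Nat.card_zpowers, hw]
    intro k hk
    obtain ⟨i, rfl⟩ := Subgroup.mem_zpowers_iff.1 hk
    rw [← conj_zpow, hinv]
    exact zpow_mem (inv_mem (Subgroup.mem_zpowers w)) i
  have hK : Nat.card ↥(Subgroup.zpowers w' ⊔ Subgroup.zpowers t) = r * 2 := by
    rw [PConjugate.card_sup_zpowers ht (hnot hw' ht), Nat.card_zpowers, hw']
    intro k hk
    obtain ⟨i, rfl⟩ := Subgroup.mem_zpowers_iff.1 hk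
    rw [(hcomm.zpow_right i).eq, mul_inv_cancel_right]
    exact hk
  obtain ⟨g, hg⟩ := h _ _ (hK.trans hH.symm)
  have hab : ∀ a ∈ Subgroup.zpowers w' ⊔ Subgroup.zpowers t,
      ∀ b ∈ Subgroup.zpowers w' ⊔ Subgroup.zpowers t, Commute a b := by
    rw [Subgroup.zpowers_eq_closure, Subgroup.zpowers_eq_closure, ← Subgroup.closure_union]
    exact PConjugate.commute_of_closure (by
      rintro a (rfl | rfl) b (rfl | rfl)
      exacts [Commute.refl _, hcomm.symm, hcomm, Commute.refl _])
  have hwm : w ∈ Subgroup.zpowers w ⊔ Subgroup.zpowers u :=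
    Subgroup.mem_sup_left (Subgroup.mem_zpowers w)
  have hum : u ∈ Subgroup.zpowers w ⊔ Subgroup.zpowers u :=
    Subgroup.mem_sup_right (Subgroup.mem_zpowers u)
  rw [hg] at hwm hum
  obtain ⟨a, ha, ha'⟩ := hwm
  obtain ⟨b, hb, hb'⟩ := hum
  have hc : Commute w u := ha' ▸ hb' ▸ (hab a ha b hb).map (MulAut.conj g).toMonoidHom
  rw [← hc.eq, mul_inv_cancel_right] at hinv
  have h2 : w ^ 2 = 1 := by rw [pow_two]; exact eq_inv_iff_mul_eq_one.1 hinv
  have h3 := orderOf_dvd_of_pow_eq_one h2
  rw [hw] at h3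
  exact hr2 ((Nat.prime_dvd_prime_iff_eq hr.out Nat.prime_two).1 h3)

variable [Fact (Nat.Prime 2)] (S : Sylow 2 G)

/-- In exponent two Sylow subgroups all `2`-elements square to one. -/
theorem sq_eq_one_of_exp_two (hS : ∀ x ∈ (S : Subgroup G), x ^ 2 = 1) {x : G} {k : ℕ}
    (hx : orderOf x = 2 ^ k) : x ^ 2 = 1 := by
  obtain ⟨T, hT⟩ := (IsPGroup.of_card (p := 2) (n := k)
    ((Nat.card_zpowers x).trans hx)).exists_le_sylow
  have h := hS _ (T.equiv S ⟨x, hT (Subgroup.mem_zpowers x)⟩).2
  have h1 : T.equiv S (⟨x, hT (Subgroup.mem_zpowers x)⟩ ^ 2) = 1 := by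
    rw [map_pow]; exact Subtype.ext (by rw [Subgroup.coe_pow]; exact h)
  exact congrArg Subtype.val ((map_eq_one_iff _ (T.equiv S).injective).1 h1)

/-- If the Sylow subgroups have exponent two, involutions commuting with an involution commute. -/
theorem AllConj.commute_involutions (h : AllConj G) (hS : ∀ x ∈ (S : Subgroup G), x ^ 2 = 1)
    {t a b : G} (ht : orderOf t = 2) (ha : a * a = 1) (hb : b * b = 1) (hat : Commute t a)
    (hbt : Commute t b) : Commute a b := by
  have hainv : a⁻¹ = a := inv_eq_of_mul_eq_one_right ha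
  have hbinv : b⁻¹ = b := inv_eq_of_mul_eq_one_right hb
  obtain ⟨k, r, hr2, hk⟩ := Nat.exists_eq_pow_mul_and_not_dvd (orderOf_pos (a * b)).ne' 2 (by norm_num)
  by_cases hr1 : r = 1
  · have h2 := sq_eq_one_of_exp_two S hS (x := a * b) (k := k) (by rw [hk, hr1, mul_one])
    rw [pow_two] at h2
    have h3 := inv_eq_of_mul_eq_one_right h2
    rw [mul_inv_rev, hainv, hbinv] at h3
    exact h3.symm
  exfalso
  obtain ⟨q, hq, hqr⟩ := Nat.exists_prime_and_dvd hr1
  haveI : Fact q.Prime := ⟨hq⟩
  have hqo : q ∣ orderOf (a * b) := hk ▸ dvd_mul_of_dvd_right hqr _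
  set w := (a * b) ^ (orderOf (a * b) / q) with hw
  have hwo : orderOf w = q := by
    rw [hw, orderOf_pow, Nat.gcd_eq_right (Nat.div_dvd_of_dvd hqo),
      Nat.div_div_self hqo (orderOf_pos (a * b)).ne']
  have ha1 : orderOf a = 2 := by
    refine orderOf_eq_prime (by rw [pow_two, ha]) fun e => ?_
    have : w ^ 2 = 1 := by
      rw [hw, e, one_mul, ← pow_mul, mul_comm, pow_mul, pow_two, hb, one_pow]
    have h3 := orderOf_dvd_of_pow_eq_one this
    rw [hwo] at h3
    exact hr2 ((Nat.prime_dvd_prime_iff_eq hq Nat.prime_two).1 h3 ▸ hqr)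
  have hinv : a * w * a⁻¹ = w⁻¹ := by
    rw [hw, ← conj_pow, ← inv_pow]
    congr 1
    rw [mul_inv_rev, hainv, hbinv, ← mul_assoc, ha, one_mul]
  exact h.false_of_inverted (fun e => hr2 (e ▸ hqr)) hwo hwo ha1 ht hinv
    ((hat.mul_right hbt).pow_right _)

/-- Exponent two Sylow subgroup: an element squaring to one and commuting with an involution of
`S` lies in `S`. -/
theorem AllConj.mem_of_commute (h : AllConj G) (hS : ∀ x ∈ (S : Subgroup G), x ^ 2 = 1)
    {t a : G} (htS : t ∈ (S : Subgroup G)) (ht : t ≠ 1) (ha : a * a = 1) (hat : Commute t a) :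
    a ∈ (S : Subgroup G) := by
  have hsq : ∀ x ∈ (S : Subgroup G), x * x = 1 := fun x hx => pow_two x ▸ hS x hx
  have hSc : ∀ x ∈ (S : Subgroup G), ∀ y ∈ (S : Subgroup G), Commute x y := fun x hx y hy => by
    have h1 := inv_eq_of_mul_eq_one_right (hsq _ (mul_mem hx hy))
    rw [mul_inv_rev, inv_eq_of_mul_eq_one_right (hsq x hx),
      inv_eq_of_mul_eq_one_right (hsq y hy)] at h1
    exact h1.symm
  have hto : orderOf t = 2 := orderOf_eq_prime (hS t htS) ht
  set T := insert a ((S : Subgroup G) : Set G) with hT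
  have haS : ∀ y ∈ (S : Subgroup G), Commute a y := fun y hy =>
    h.commute_involutions S hS hto ha (hsq y hy) hat (hSc t htS y hy)
  have hTc : ∀ x ∈ T, ∀ y ∈ T, Commute x y := by
    rintro x (rfl | hx) y (rfl | hy)
    exacts [Commute.refl _, haS y hy, (haS x hx).symm, hSc x hx y hy]
  have hexp : ∀ x ∈ Subgroup.closure T, x ^ 2 = 1 := by
    intro x hx
    induction hx using Subgroup.closure_induction with
    | mem y hy =>
      rcases hy with rfl | hy
      · rw [pow_two, ha]
      · exact hS y hy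
    | one => exact one_pow _
    | mul y z hy hz hy' hz' =>
      rw [(PConjugate.commute_of_closure hTc y hy z hz).mul_pow, hy', hz', one_mul]
    | inv y _ hy' => rw [inv_pow, hy', inv_one]
  have hp : IsPGroup 2 (Subgroup.closure T) := fun x => ⟨1, Subtype.ext (by
    rw [Subgroup.coe_pow, pow_one]; exact hexp x x.2)⟩
  have heq := S.is_maximal' hp fun x hx => Subgroup.subset_closure (Set.mem_insert_of_mem a hx)
  exact heq.le (Subgroup.subset_closure (Set.mem_insert a _))

/-- The centraliser of an involution of `S` normalises `S`. -/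
theorem AllConj.centralizer_le_normalizer (h : AllConj G)
    (hS : ∀ x ∈ (S : Subgroup G), x ^ 2 = 1) {t : G} (htS : t ∈ (S : Subgroup G)) (ht : t ≠ 1) :
    Subgroup.centralizer ({t} : Set G) ≤ Subgroup.normalizer ((S : Subgroup G) : Set G) := by
  intro g hg
  rw [Subgroup.mem_normalizer_iff_map_conj_eq]
  refine Subgroup.eq_of_le_of_card_ge ?_
    (Nat.card_congr ((S : Subgroup G).equivMapOfInjective _ (MulAut.conj g).injective).toEquiv).le
  rintro _ ⟨x, hx, rfl⟩
  have hgt : Commute g t := Subgroup.mem_centralizer_singleton_iff.1 hg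
  have htx : Commute t x := by
    have h1 := inv_eq_of_mul_eq_one_right (pow_two (t * x) ▸ hS _ (mul_mem htS hx))
    rw [mul_inv_rev, inv_eq_of_mul_eq_one_right ((pow_two t).symm.trans (hS t htS)),
      inv_eq_of_mul_eq_one_right ((pow_two x).symm.trans (hS x hx))] at h1
    exact h1.symm
  refine h.mem_of_commute S hS htS ht ?_ ?_
  · show g * x * g⁻¹ * (g * x * g⁻¹) = 1
    rw [show g * x * g⁻¹ * (g * x * g⁻¹) = g * (x * x) * g⁻¹ by group, ← pow_two, hS x hx,
      mul_one, mul_inv_cancel]
  · exact (hgt.symm.mul_right htx).mul_right hgt.symm.inv_right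

end CfsgLib.EqualOrder
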